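import Mathlib
import Cfsg.Agent.SplitTwo.RootSys
/-!
# The closing theorem of rank two, combinatorial part

`Local m G`: the positive root groups `X 1, …, X m` of a rank two parabolic pair inside `G`, a torus `H` and two
elements `n₁`, `n₂` (generators of the Weyl group modulo `H`) with the LOCAL relations only (those which can be
read off in the two minimal parabolics).  `Local.rootSys`: if `(n₁ n₂)^m` normalises `X 1` and `X m`, then `G`
has a root group system `SplitTwo.RootSys m G`.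
-/

set_option autoImplicit false

namespace Cfsg.Agent.Closing.Apt

variable {G : Type*} [Group G]

/-- conjugate of a subgroup -/
def cj (g : G) (K : Subgroup G) : Subgroup G := K.map (MulAut.conj g).toMonoidHom

theorem mem_cj {g : G} {K : Subgroup G} {x : G} : x ∈ cj g K ↔ g⁻¹ * x * g ∈ K := by
  constructor
  · rintro ⟨y, hy, rfl⟩
    have : g⁻¹ * (MulAut.conj g).toMonoidHom y * g = y := by simp [mul_assoc]
    rw [this]; exact hy
  · intro h
    exact ⟨g⁻¹ * x * g, h, by simp [mul_assoc]⟩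

theorem conj_mem_cj {g : G} {K : Subgroup G} {x : G} (hx : x ∈ K) : g * x * g⁻¹ ∈ cj g K := by
  rw [mem_cj]; simpa [mul_assoc] using hx

theorem conj_mem_cj_iff {g : G} {K : Subgroup G} {x : G} : g * x * g⁻¹ ∈ cj g K ↔ x ∈ K := by
  rw [mem_cj]; simp [mul_assoc]

theorem cj_one (K : Subgroup G) : cj 1 K = K := by
  ext x; rw [mem_cj]; simp

theorem cj_mul (g h : G) (K : Subgroup G) : cj (g * h) K = cj g (cj h K) := by
  ext x; simp only [mem_cj, mul_inv_rev, mul_assoc]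

theorem cj_inv_cj (g : G) (K : Subgroup G) : cj g⁻¹ (cj g K) = K := by
  rw [← cj_mul]; simp [cj_one]

theorem cj_cj_inv (g : G) (K : Subgroup G) : cj g (cj g⁻¹ K) = K := by
  rw [← cj_mul]; simp [cj_one]

theorem cj_mono {g : G} {K L : Subgroup G} (h : K ≤ L) : cj g K ≤ cj g L :=
  Subgroup.map_mono h

theorem cj_injective (g : G) : Function.Injective (cj g) := by
  intro K L h
  have := congrArg (cj g⁻¹) h
  simpa [cj_inv_cj] using this

theorem cj_inf (g : G) (K L : Subgroup G) : cj g (K ⊓ L) = cj g K ⊓ cj g L := by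
  ext x; simp [mem_cj]

theorem cj_bot (g : G) : cj g (⊥ : Subgroup G) = ⊥ := Subgroup.map_bot _

theorem cj_iSup {ι : Sort*} (g : G) (K : ι → Subgroup G) : cj g (⨆ i, K i) = ⨆ i, cj g (K i) :=
  Subgroup.map_iSup _ _

theorem cj_commutator (g : G) (K L : Subgroup G) : cj g ⁅K, L⁆ = ⁅cj g K, cj g L⁆ :=
  Subgroup.map_commutator _ _ _

theorem cj_eq_bot {g : G} {K : Subgroup G} : cj g K = ⊥ ↔ K = ⊥ := by
  constructor
  · intro h; apply cj_injective g; rw [h, cj_bot]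
  · rintro rfl; exact cj_bot g

/-- local data of rank two -/
structure Local (m : ℕ) (G : Type*) [Group G] where
  /-- the positive root groups `X 1, …, X m` -/
  X : ℕ → Subgroup G
  /-- the torus -/
  H : Subgroup G
  n₁ : G
  n₂ : G
  two_lt : 2 < m
  ne_bot : ∀ j, 1 ≤ j → j ≤ m → X j ≠ ⊥
  HX : ∀ h ∈ H, ∀ j, 1 ≤ j → j ≤ m → cj h (X j) = X j
  nH₁ : cj n₁ H = H
  nH₂ : cj n₂ H = H
  sq₁ : n₁ * n₁ ∈ H
  sq₂ : n₂ * n₂ ∈ H
  r₁ : ∀ j, 2 ≤ j → j ≤ m → cj n₁ (X j) = X (m + 2 - j)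
  r₂ : ∀ j, 1 ≤ j → j < m → cj n₂ (X j) = X (m - j)
  comm : ∀ i k, 1 ≤ i → 1 ≤ k → i + k ≤ m → ⁅X i, X (i + k)⁆ ≤ ⨆ r ∈ Set.Ioo 0 k, X (i + r)
  inter₁ : X 1 ⊓ (⨆ r ∈ Set.Ioo 0 m, X (1 + r)) = ⊥
  inter₂ : X m ⊓ (⨆ r ∈ Set.Ioo 0 m, X (m - r)) = ⊥
  mu₁ : ∀ u ∈ X 1, u ≠ 1 → ∃ v ∈ cj n₁ (X 1), ∃ v' ∈ cj n₁ (X 1), ∃ h ∈ H, v * u * v' = n₁ * h
  mu₂ : ∀ u ∈ X m, u ≠ 1 → ∃ v ∈ cj n₂ (X m), ∃ v' ∈ cj n₂ (X m), ∃ h ∈ H, v * u * v' = n₂ * h

namespace Local

variable {m : ℕ} (D : Local m G)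

/-- the translation -/
def t : G := D.n₁ * D.n₂

/-- the root groups of the apartment of the tree, indexed by `ℤ` -/
def Z (j : ℤ) : Subgroup G := cj (D.t ^ ((j - 1) / 2)) (D.X (1 + ((j - 1) % 2).toNat))

theorem Z_one : D.Z 1 = D.X 1 := by simp [Z, cj_one]

theorem Z_two : D.Z 2 = D.X 2 := by
  have h1 : ((2 : ℤ) - 1) / 2 = 0 := by norm_num
  have h2 : ((2 : ℤ) - 1) % 2 = 1 := by norm_num
  simp only [Z, h1, h2]
  simp [cj_one]

theorem Z_add_two (j : ℤ) : D.Z (j + 2) = cj D.t (D.Z j) := by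
  have h1 : (j + 2 - 1) / 2 = (j - 1) / 2 + 1 := by omega
  have h2 : (j + 2 - 1) % 2 = (j - 1) % 2 := by omega
  rw [Z, Z, h1, h2, ← cj_mul, zpow_add, zpow_one, (Commute.refl D.t).zpow_left _ |>.eq]

theorem Z_sub_two (j : ℤ) : D.Z (j - 2) = cj D.t⁻¹ (D.Z j) := by
  have := D.Z_add_two (j - 2)
  rw [sub_add_cancel] at this
  rw [this, cj_inv_cj]

/-- induction over `ℤ` in steps of two -/
theorem step_induction {P : ℤ → Prop} (h1 : P 1) (h2 : P 2) (h : ∀ j, P j ↔ P (j + 2)) : ∀ j, P j := by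
  have key : ∀ n : ℕ, (P (1 + 2 * n) ∧ P (2 + 2 * n)) ∧ (P (1 - 2 * n) ∧ P (2 - 2 * n)) := by
    intro n
    induction n with
    | zero => simpa using ⟨h1, h2⟩
    | succ n ih =>
      obtain ⟨⟨a, b⟩, c, d⟩ := ih
      refine ⟨⟨?_, ?_⟩, ?_, ?_⟩
      · have := (h _).1 a
        have e : (1 : ℤ) + 2 * ((n + 1 : ℕ) : ℤ) = 1 + 2 * n + 2 := by push_cast; ring
        rw [e]; exact this
      · have := (h _).1 b
        have e : (2 : ℤ) + 2 * ((n + 1 : ℕ) : ℤ) = 2 + 2 * n + 2 := by push_cast; ring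
        rw [e]; exact this
      · apply (h _).2
        have e : (1 : ℤ) - 2 * ((n + 1 : ℕ) : ℤ) + 2 = 1 - 2 * n := by push_cast; ring
        rw [e]; exact c
      · apply (h _).2
        have e : (2 : ℤ) - 2 * ((n + 1 : ℕ) : ℤ) + 2 = 2 - 2 * n := by push_cast; ring
        rw [e]; exact d
  intro j
  rcases le_or_gt 1 j with hj | hj
  · rcases Int.even_or_odd j with ⟨k, hk⟩ | ⟨k, hk⟩
    · have : j = 2 + 2 * ((k - 1).toNat : ℤ) := by omega
      rw [this]; exact (key _).1.2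
    · have : j = 1 + 2 * ((k).toNat : ℤ) := by omega
      rw [this]; exact (key _).1.1
  · rcases Int.even_or_odd j with ⟨k, hk⟩ | ⟨k, hk⟩
    · have : j = 2 - 2 * ((1 - k).toNat : ℤ) := by omega
      rw [this]; exact (key _).2.2
    · have : j = 1 - 2 * ((-k).toNat : ℤ) := by omega
      rw [this]; exact (key _).2.1

theorem X_add_two {j : ℕ} (h1 : 1 ≤ j) (h2 : j + 2 ≤ m) : D.X (j + 2) = cj D.t (D.X j) := by
  rw [t, cj_mul, D.r₂ j h1 (by omega), D.r₁ (m - j) (by omega) (by omega)]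
  congr 1; omega

theorem Z_nat : ∀ j : ℕ, 1 ≤ j → j ≤ m → D.Z (j : ℤ) = D.X j := by
  intro j
  induction j using Nat.strong_induction_on with
  | _ j ih =>
    intro h1 h2
    rcases Nat.lt_or_ge j 3 with h | h
    · have : j = 1 ∨ j = 2 := by omega
      rcases this with rfl | rfl
      · exact_mod_cast D.Z_one
      · exact_mod_cast D.Z_two
    · obtain ⟨i, rfl⟩ : ∃ i, j = i + 2 := ⟨j - 2, by omega⟩
      have e : ((i + 2 : ℕ) : ℤ) = (i : ℤ) + 2 := by push_cast; ring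
      rw [e, D.Z_add_two, ih i (by omega) (by omega) (by omega), D.X_add_two (by omega) h2]

theorem nH_t : cj D.t D.H = D.H := by
  rw [t, cj_mul, D.nH₂, D.nH₁]

theorem t_inv_H {h : G} (hh : h ∈ D.H) : D.t⁻¹ * h * D.t ∈ D.H := by
  have := D.nH_t ▸ hh
  rwa [mem_cj] at this

theorem t_H {h : G} (hh : h ∈ D.H) : D.t * h * D.t⁻¹ ∈ D.H := by
  have : D.t * h * D.t⁻¹ ∈ cj D.t D.H := conj_mem_cj hh
  rwa [D.nH_t] at this

theorem n₁_H {h : G} (hh : h ∈ D.H) : D.n₁ * h * D.n₁⁻¹ ∈ D.H := by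
  have : D.n₁ * h * D.n₁⁻¹ ∈ cj D.n₁ D.H := conj_mem_cj hh
  rwa [D.nH₁] at this

theorem HZ : ∀ j : ℤ, ∀ h ∈ D.H, cj h (D.Z j) = D.Z j := by
  have hm := D.two_lt
  apply step_induction
  · intro h hh
    rw [D.Z_one]; exact D.HX h hh 1 le_rfl (by omega)
  · intro h hh
    rw [D.Z_two]; exact D.HX h hh 2 (by omega) (by omega)
  · intro j
    constructor
    · intro hj h hh
      have e : h * D.t = D.t * (D.t⁻¹ * h * D.t) := by group
      rw [D.Z_add_two, ← cj_mul, e, cj_mul, hj _ (D.t_inv_H hh)]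
    · intro hj h hh
      have h1 := hj _ (D.t_H hh)
      rw [D.Z_add_two, ← cj_mul] at h1
      have e : D.t * h * D.t⁻¹ * D.t = D.t * h := by group
      rw [e, cj_mul] at h1
      exact cj_injective _ h1

theorem HZ_inv (j : ℤ) {h : G} (hh : h ∈ D.H) : cj h⁻¹ (D.Z j) = D.Z j :=
  D.HZ j _ (D.H.inv_mem hh)

theorem R₁ : ∀ j : ℤ, cj D.n₁ (D.Z j) = D.Z (m + 2 - j) := by
  have hm := D.two_lt
  have base : ∀ j : ℤ, cj D.n₁ (D.Z j) = D.Z (m + 2 - j) ↔
      cj D.n₁ (D.Z (j + 2)) = D.Z (m + 2 - (j + 2)) := by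
    intro j
    have e1 : (m : ℤ) + 2 - (j + 2) = (m + 2 - j) - 2 := by ring
    have e2 : D.n₁ * D.t = ((D.n₁ * D.n₁) * (D.n₂ * D.n₂)) * D.n₂⁻¹ := by
      rw [t]; group
    have hH : (D.n₁ * D.n₁) * (D.n₂ * D.n₂) ∈ D.H := D.H.mul_mem D.sq₁ D.sq₂
    have e3 : D.n₂⁻¹ = D.t⁻¹ * D.n₁ := by rw [t]; group
    have e4 : D.n₁ = D.t * D.n₂⁻¹ := by rw [t]; group
    constructor
    · intro h
      have h1 : cj D.n₂⁻¹ (D.Z j) = D.Z (m + 2 - (j + 2)) := by
        rw [e3, cj_mul, h, ← D.Z_sub_two, ← e1]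
      rw [D.Z_add_two, ← cj_mul, e2, cj_mul, h1]
      exact D.HZ _ _ hH
    · intro h
      rw [D.Z_add_two, ← cj_mul, e2, cj_mul] at h
      have h1 : cj D.n₂⁻¹ (D.Z j) = D.Z (m + 2 - (j + 2)) := by
        apply cj_injective ((D.n₁ * D.n₁) * (D.n₂ * D.n₂))
        rw [h, D.HZ _ _ hH]
      rw [e4, cj_mul, h1, ← D.Z_add_two]
      congr 1; ring
  apply step_induction
  · rw [D.Z_one]
    have e : (m : ℤ) + 2 - 1 = ((m - 1 : ℕ) : ℤ) + 2 := by
      rw [Nat.cast_sub (by omega)]; push_cast; ring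
    rw [e, D.Z_add_two, D.Z_nat _ (by omega) (by omega), t, cj_mul, D.r₂ _ (by omega) (by omega)]
    congr 2; omega
  · rw [D.Z_two, D.r₁ 2 le_rfl (by omega)]
    have e : (m : ℤ) + 2 - 2 = ((m : ℕ) : ℤ) := by ring
    rw [e, D.Z_nat _ (by omega) le_rfl]
    congr 1
  · exact base

theorem R₂ (j : ℤ) : cj D.n₂ (D.Z j) = D.Z (m - j) := by
  have e : D.n₂ = D.n₁⁻¹ * D.t := by rw [t]; group
  apply cj_injective D.n₁
  rw [← cj_mul, e, ← mul_assoc, mul_inv_cancel, one_mul, ← D.Z_add_two, D.R₁]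
  congr 1; ring

/-- the property of `n` to induce the map `j ↦ c - j` on the apartment -/
def Refl (n : G) (c : ℤ) : Prop := ∀ j : ℤ, cj n (D.Z j) = D.Z (c - j)

/-- periodicity -/
def Per : Prop := ∀ j : ℤ, D.Z (j + 2 * m) = D.Z j

theorem Z_add_two_mul (j : ℤ) : ∀ k : ℕ, D.Z (j + 2 * k) = cj (D.t ^ k) (D.Z j) := by
  intro k
  induction k with
  | zero => simp [cj_one]
  | succ k ih =>
    have e : j + 2 * ((k + 1 : ℕ) : ℤ) = (j + 2 * k) + 2 := by push_cast; ring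
    rw [e, D.Z_add_two, ih, ← cj_mul, pow_succ']

/-- translation of the periodicity in steps of two -/
theorem per_step (j : ℤ) : D.Z (j + 2 * m) = D.Z j ↔ D.Z (j + 2 + 2 * m) = D.Z (j + 2) := by
  have e : j + 2 + 2 * (m : ℤ) = (j + 2 * m) + 2 := by ring
  rw [e, D.Z_add_two, D.Z_add_two]
  constructor
  · intro h; rw [h]
  · intro h; exact cj_injective _ h

theorem per_steps (j : ℤ) (k : ℕ) :
    (D.Z (j + 2 * m) = D.Z j ↔ D.Z (j + 2 * k + 2 * m) = D.Z (j + 2 * k)) := by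
  induction k with
  | zero => simp
  | succ k ih =>
    rw [ih, D.per_step]
    have e1 : j + 2 * ((k + 1 : ℕ) : ℤ) = j + 2 * k + 2 := by push_cast; ring
    rw [e1]

theorem per_of_Z (p1 : D.Z (1 + 2 * m) = D.Z 1) (pm : D.Z (m + 2 * m) = D.Z m) : D.Per := by
  have hm := D.two_lt
  have step := D.per_step
  -- steps of two in both directions
  have steps := D.per_steps
  have p2 : D.Z (2 + 2 * m) = D.Z 2 := by
    rcases Nat.even_or_odd m with ⟨c, hc⟩ | ⟨c, hc⟩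
    · have := (steps 2 (c - 1)).2
      apply this
      have e : (2 : ℤ) + 2 * ((c - 1 : ℕ) : ℤ) = m := by omega
      rw [e]; exact pm
    · -- apply the reflection `n₁`
      have q : D.Z ((m : ℤ) + 1 + 2 * m) = D.Z (m + 1) := by
        have a1 := D.R₁ (1 - 2 * m)
        have a2 := D.R₁ 1
        have a3 : D.Z (1 - 2 * m + 2 * m) = D.Z (1 - 2 * m) := by
          have s := steps (1 - 2 * m) m
          have e : (1 : ℤ) - 2 * m + 2 * m = 1 := by ring
          rw [e] at s ⊢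
          exact s.2 p1
        have e1 : (m : ℤ) + 2 - (1 - 2 * m) = m + 1 + 2 * m := by ring
        have e2 : (m : ℤ) + 2 - 1 = m + 1 := by ring
        have e3 : (1 : ℤ) - 2 * m + 2 * m = 1 := by ring
        rw [e3] at a3
        rw [e1] at a1
        rw [e2] at a2
        rw [← a1, ← a2, a3]
      have := (steps 2 c).2
      apply this
      have e : (2 : ℤ) + 2 * ((c : ℕ) : ℤ) = m + 1 := by omega
      rw [e]; exact q
  exact step_induction p1 p2 step

theorem per_of (h1 : cj (D.t ^ m) (D.X 1) = D.X 1) (h2 : cj (D.t ^ m) (D.X m) = D.X m) : D.Per := by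
  have hm := D.two_lt
  apply D.per_of_Z
  · rw [D.Z_add_two_mul, D.Z_one, h1]
  · rw [D.Z_add_two_mul, D.Z_nat m (by omega) le_rfl, h2]

/-- the commutator relations over `ℤ` -/
theorem commZ : ∀ j : ℤ, ∀ k : ℕ, 1 ≤ k → k < m →
    ⁅D.Z j, D.Z (j + k)⁆ ≤ ⨆ r ∈ Set.Ioo 0 k, D.Z (j + (r : ℕ)) := by
  have hm := D.two_lt
  -- conjugating by `t`
  have step : ∀ j : ℤ, (∀ k : ℕ, 1 ≤ k → k < m →
      ⁅D.Z j, D.Z (j + k)⁆ ≤ ⨆ r ∈ Set.Ioo 0 k, D.Z (j + (r : ℕ))) ↔
      (∀ k : ℕ, 1 ≤ k → k < m →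
      ⁅D.Z (j + 2), D.Z (j + 2 + k)⁆ ≤ ⨆ r ∈ Set.Ioo 0 k, D.Z (j + 2 + (r : ℕ))) := by
    intro j
    have hr : ∀ r : ℕ, D.Z (j + 2 + r) = cj D.t (D.Z (j + r)) := by
      intro r
      have e : j + 2 + (r : ℤ) = j + r + 2 := by ring
      rw [e, D.Z_add_two]
    have hr0 : D.Z (j + 2) = cj D.t (D.Z j) := D.Z_add_two j
    constructor
    · intro h k h1 h2
      simp only [hr, hr0, ← cj_commutator, ← cj_iSup]
      exact cj_mono (h k h1 h2)
    · intro h k h1 h2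
      have h3 := h k h1 h2
      simp only [hr, hr0, ← cj_commutator, ← cj_iSup] at h3
      have h4 := cj_mono (g := D.t⁻¹) h3
      rwa [cj_inv_cj, cj_inv_cj] at h4
  apply step_induction
  · intro k h1 h2
    have e : (1 : ℤ) + k = ((1 + k : ℕ) : ℤ) := by push_cast; ring
    rw [D.Z_one, e, D.Z_nat _ (by omega) (by omega)]
    refine (D.comm 1 k le_rfl h1 (by omega)).trans ?_
    apply iSup₂_le
    intro r hr
    have e : D.X (1 + r) = D.Z (1 + (r : ℕ)) := by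
      have e1 : (1 : ℤ) + r = ((1 + r : ℕ) : ℤ) := by push_cast; ring
      rw [e1, D.Z_nat _ (by omega) (by have := hr.2; omega)]
    rw [e]
    exact le_iSup₂_of_le r hr le_rfl
  · intro k h1 h2
    rcases Nat.lt_or_ge k (m - 1) with hk | hk
    · have e : (2 : ℤ) + k = ((2 + k : ℕ) : ℤ) := by push_cast; ring
      rw [D.Z_two, e, D.Z_nat _ (by omega) (by omega)]
      refine (D.comm 2 k (by omega) h1 (by omega)).trans ?_
      apply iSup₂_le
      intro r hr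
      have e : D.X (2 + r) = D.Z (2 + (r : ℕ)) := by
        have e1 : (2 : ℤ) + r = ((2 + r : ℕ) : ℤ) := by push_cast; ring
        rw [e1, D.Z_nat _ (by omega) (by have := hr.2; omega)]
      rw [e]
      exact le_iSup₂_of_le r hr le_rfl
    · obtain rfl : k = m - 1 := by omega
      -- apply `n₁`
      have hc := cj_mono (g := D.n₁) (D.comm 1 (m - 1) le_rfl (by omega) (by omega))
      rw [cj_commutator, cj_iSup] at hc
      have a1 : cj D.n₁ (D.X 1) = D.Z (2 + ((m - 1 : ℕ) : ℤ)) := by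
        rw [← D.Z_one, D.R₁]
        congr 1
        rw [Nat.cast_sub (by omega)]; push_cast; ring
      have a2 : cj D.n₁ (D.X (1 + (m - 1))) = D.Z 2 := by
        rw [← D.Z_nat (1 + (m - 1)) (by omega) (by omega), D.R₁]
        congr 1
        omega
      rw [a1, a2, Subgroup.commutator_comm] at hc
      refine hc.trans ?_
      apply iSup_le
      intro r
      rw [cj_iSup]
      apply iSup_le
      intro hr
      have hr' := hr
      obtain ⟨hr1, hr2⟩ := hr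
      have a3 : cj D.n₁ (D.X (1 + r)) = D.Z (2 + ((m - 1 - r : ℕ) : ℤ)) := by
        rw [← D.Z_nat (1 + r) (by omega) (by omega), D.R₁]
        congr 1
        omega
      rw [a3]
      exact le_iSup₂_of_le (m - 1 - r) ⟨by omega, by omega⟩ le_rfl
  · exact step

/-- the intersection property over `ℤ` -/
theorem interZ : ∀ j : ℤ, D.Z j ⊓ (⨆ r ∈ Set.Ioo 0 m, D.Z (j + (r : ℕ))) = ⊥ := by
  have hm := D.two_lt
  apply step_induction
  · have e : (⨆ r ∈ Set.Ioo 0 m, D.Z (1 + (r : ℕ))) = ⨆ r ∈ Set.Ioo 0 m, D.X (1 + r) := by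
      apply le_antisymm
      · apply iSup₂_le
        intro r hr
        have e1 : (1 : ℤ) + r = ((1 + r : ℕ) : ℤ) := by push_cast; ring
        rw [e1, D.Z_nat _ (by omega) (by have := hr.2; omega)]
        exact le_iSup₂_of_le r hr le_rfl
      · apply iSup₂_le
        intro r hr
        have e1 : D.X (1 + r) = D.Z (1 + (r : ℕ)) := by
          have e1 : (1 : ℤ) + r = ((1 + r : ℕ) : ℤ) := by push_cast; ring
          rw [e1, D.Z_nat _ (by omega) (by have := hr.2; omega)]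
        rw [e1]
        exact le_iSup₂_of_le r hr le_rfl
    rw [e, D.Z_one]
    exact D.inter₁
  · -- apply `n₁` to `inter₂`
    have hc := congrArg (cj D.n₁) D.inter₂
    rw [cj_inf, cj_bot, cj_iSup] at hc
    have a2 : cj D.n₁ (D.X m) = D.Z 2 := by
      rw [← D.Z_nat m (by omega) le_rfl, D.R₁]
      congr 1
      omega
    rw [a2] at hc
    have e : (⨆ r, cj D.n₁ (⨆ (_ : r ∈ Set.Ioo 0 m), D.X (m - r))) =
        ⨆ r ∈ Set.Ioo 0 m, D.Z (2 + (r : ℕ)) := by
      congr 1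
      funext r
      rw [cj_iSup]
      congr 1
      funext hr
      obtain ⟨hr1, hr2⟩ := hr
      rw [← D.Z_nat (m - r) (by omega) (by omega), D.R₁]
      congr 1
      rw [Nat.cast_sub (by omega)]; ring
    rw [e] at hc
    exact hc
  · intro j
    have hr : ∀ r : ℕ, D.Z (j + 2 + r) = cj D.t (D.Z (j + r)) := by
      intro r
      have e : j + 2 + (r : ℤ) = j + r + 2 := by ring
      rw [e, D.Z_add_two]
    have hr0 : D.Z (j + 2) = cj D.t (D.Z j) := D.Z_add_two j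
    simp only [hr, hr0, ← cj_iSup, ← cj_inf, cj_eq_bot]

theorem per_mul (hp : D.Per) : ∀ (k : ℤ) (j : ℤ), D.Z (j + 2 * m * k) = D.Z j := by
  intro k
  induction k using Int.induction_on with
  | zero => intro j; simp
  | succ k ih =>
    intro j
    have e : j + 2 * (m : ℤ) * ((k : ℤ) + 1) = (j + 2 * m * k) + 2 * m := by ring
    rw [e, hp, ih]
  | pred k ih =>
    intro j
    have e : j = j + 2 * (m : ℤ) * (-(k : ℤ) - 1) + 2 * m * k + 2 * m := by ring
    have h1 := hp (j + 2 * (m : ℤ) * (-(k : ℤ) - 1) + 2 * m * k)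
    have h2 := ih (j + 2 * (m : ℤ) * (-(k : ℤ) - 1) + 2 * m * k)
    have e2 : j + 2 * (m : ℤ) * (-(k : ℤ) - 1) + 2 * m * k + 2 * m * -(k : ℤ) =
        j + 2 * m * (-(k : ℤ) - 1) := by ring
    rw [e2] at h2
    rw [h2, ← h1, ← e]

/-- the `μ`-property over `ℤ`, opposite to the right -/
def MuP (i : ℤ) : Prop := ∀ u ∈ D.Z i, u ≠ 1 → ∃ v ∈ D.Z (i + m), ∃ v' ∈ D.Z (i + m),
  ∀ j : ℤ, cj (v * u * v') (D.Z j) = D.Z (2 * i + m - j)

/-- the `μ`-property over `ℤ`, opposite to the left -/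
def MuM (i : ℤ) : Prop := ∀ u ∈ D.Z i, u ≠ 1 → ∃ v ∈ D.Z (i - m), ∃ v' ∈ D.Z (i - m),
  ∀ j : ℤ, cj (v * u * v') (D.Z j) = D.Z (2 * i - m - j)

theorem conj_ne_one {g u : G} (h : u ≠ 1) : g * u * g⁻¹ ≠ 1 := by
  intro h1
  apply h
  have : u = g⁻¹ * (g * u * g⁻¹) * g := by group
  rw [this, h1]; group

theorem refl_inv {n : G} {c : ℤ} (hn : D.Refl n c) (j : ℤ) : cj n⁻¹ (D.Z j) = D.Z (c - j) := by
  apply cj_injective n
  rw [cj_cj_inv, hn]; congr 1; ring

theorem muM_of_muP {n : G} {c : ℤ} (hn : D.Refl n c) {i : ℤ} (h : D.MuP i) : D.MuM (c - i) := by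
  intro u hu hu1
  rw [← hn i] at hu
  have hu0 : n⁻¹ * u * n ∈ D.Z i := mem_cj.1 hu
  have hu10 : n⁻¹ * u * n ≠ 1 := by
    have := conj_ne_one (g := n⁻¹) hu1
    rwa [inv_inv] at this
  obtain ⟨v, hv, v', hv', hk⟩ := h _ hu0 hu10
  have e1 : c - i - (m : ℤ) = c - (i + m) := by ring
  refine ⟨n * v * n⁻¹, ?_, n * v' * n⁻¹, ?_, ?_⟩
  · rw [e1, ← hn]; exact conj_mem_cj hv
  · rw [e1, ← hn]; exact conj_mem_cj hv'
  · intro j
    have e2 : n * v * n⁻¹ * u * (n * v' * n⁻¹) = n * (v * (n⁻¹ * u * n) * v') * n⁻¹ := by group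
    rw [e2, cj_mul, cj_mul, D.refl_inv hn, hk, hn]
    congr 1; ring

theorem muP_of_muM {n : G} {c : ℤ} (hn : D.Refl n c) {i : ℤ} (h : D.MuM i) : D.MuP (c - i) := by
  intro u hu hu1
  rw [← hn i] at hu
  have hu0 : n⁻¹ * u * n ∈ D.Z i := mem_cj.1 hu
  have hu10 : n⁻¹ * u * n ≠ 1 := by
    have := conj_ne_one (g := n⁻¹) hu1
    rwa [inv_inv] at this
  obtain ⟨v, hv, v', hv', hk⟩ := h _ hu0 hu10
  have e1 : c - i + (m : ℤ) = c - (i - m) := by ring
  refine ⟨n * v * n⁻¹, ?_, n * v' * n⁻¹, ?_, ?_⟩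
  · rw [e1, ← hn]; exact conj_mem_cj hv
  · rw [e1, ← hn]; exact conj_mem_cj hv'
  · intro j
    have e2 : n * v * n⁻¹ * u * (n * v' * n⁻¹) = n * (v * (n⁻¹ * u * n) * v') * n⁻¹ := by group
    rw [e2, cj_mul, cj_mul, D.refl_inv hn, hk, hn]
    congr 1; ring

theorem refl₁ : D.Refl D.n₁ (m + 2) := D.R₁
theorem refl₂ : D.Refl D.n₂ m := D.R₂

theorem muP : ∀ i : ℤ, D.MuP i := by
  have hm := D.two_lt
  have st1 : ∀ i : ℤ, D.MuP i → D.MuP (i + 2) := by
    intro i h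
    have h1 := D.muP_of_muM D.refl₁ (D.muM_of_muP D.refl₂ h)
    have e : (m : ℤ) + 2 - (m - i) = i + 2 := by ring
    rwa [e] at h1
  have st2 : ∀ i : ℤ, D.MuP (i + 2) → D.MuP i := by
    intro i h
    have h1 := D.muP_of_muM D.refl₂ (D.muM_of_muP D.refl₁ h)
    have e : (m : ℤ) - (m + 2 - (i + 2)) = i := by ring
    rwa [e] at h1
  have P1 : D.MuP 1 := by
    intro u hu hu1
    rw [D.Z_one] at hu
    obtain ⟨v, hv, v', hv', h, hh, hn⟩ := D.mu₁ u hu hu1
    have e : cj D.n₁ (D.X 1) = D.Z (1 + m) := by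
      rw [← D.Z_one, D.R₁]; congr 1; ring
    rw [e] at hv hv'
    refine ⟨v, hv, v', hv', ?_⟩
    intro j
    rw [hn, cj_mul, D.HZ _ _ hh, D.R₁]
    congr 1; ring
  have Pm : D.MuM m := by
    intro u hu hu1
    rw [D.Z_nat m (by omega) le_rfl] at hu
    obtain ⟨v, hv, v', hv', h, hh, hn⟩ := D.mu₂ u hu hu1
    have e : cj D.n₂ (D.X m) = D.Z ((m : ℤ) - m) := by
      rw [← D.Z_nat m (by omega) le_rfl, D.R₂]
    rw [e] at hv hv'
    refine ⟨v, hv, v', hv', ?_⟩
    intro j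
    rw [hn, cj_mul, D.HZ _ _ hh, D.R₂]
    congr 1; ring
  have P0 : D.MuP 0 := by
    have := D.muP_of_muM D.refl₂ Pm
    rwa [sub_self] at this
  have P2 : D.MuP 2 := by
    have := st1 0 P0
    rwa [zero_add] at this
  exact step_induction P1 P2 (fun i => ⟨st1 i, st2 i⟩)

theorem muM (i : ℤ) : D.MuM i := by
  have h := D.muM_of_muP D.refl₁ (D.muP (m + 2 - i))
  have e : (m : ℤ) + 2 - (m + 2 - i) = i := by ring
  rwa [e] at h

theorem coe_cast (hp : D.Per) (j : ℤ) : D.Z (((j : ZMod (2 * m)).cast : ℤ)) = D.Z j := by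
  have hm := D.two_lt
  rw [ZMod.coe_intCast]
  have e : j = j % ((2 * m : ℕ) : ℤ) + 2 * m * (j / ((2 * m : ℕ) : ℤ)) := by
    have := Int.emod_add_mul_ediv j ((2 * m : ℕ) : ℤ)
    push_cast at this ⊢
    linarith
  conv_rhs => rw [e]
  rw [D.per_mul hp]

/-- **the root group system** -/
def rootSys (hp : D.Per) (p : ℕ) (hprime : p.Prime) (hpg : ∀ j, 1 ≤ j → j ≤ m → IsPGroup p (D.X j))
    (hgen : ((⨆ j ∈ Set.Icc 1 m, D.X j) ⊔ cj D.n₁ (D.X 1)) ⊔ cj D.n₂ (D.X m) = ⊤) :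
    SplitTwo.RootSys m G where
  X i := D.Z (i.cast : ℤ)
  H := D.H
  two_lt := D.two_lt
  ne_bot := by
    have hm := D.two_lt
    have key : ∀ j : ℤ, D.Z j ≠ ⊥ := by
      apply step_induction
      · rw [D.Z_one]; exact D.ne_bot 1 le_rfl (by omega)
      · rw [D.Z_two]; exact D.ne_bot 2 (by omega) (by omega)
      · intro j
        rw [D.Z_add_two, ne_eq, ne_eq, cj_eq_bot]
    intro i
    exact key _
  comm := by
    intro i k h1 h2
    have e : ∀ r : ℕ, D.Z (((i + ((r : ℕ) : ZMod (2 * m))).cast : ℤ)) = D.Z ((i.cast : ℤ) + r) := by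
      intro r
      have : i + ((r : ℕ) : ZMod (2 * m)) = (((i.cast : ℤ) + r : ℤ) : ZMod (2 * m)) := by
        push_cast
        rfl
      rw [this, D.coe_cast hp]
    simp only [e]
    exact D.commZ _ k h1 h2
  inter := by
    intro i
    have e : ∀ r : ℕ, D.Z (((i + ((r : ℕ) : ZMod (2 * m))).cast : ℤ)) = D.Z ((i.cast : ℤ) + r) := by
      intro r
      have : i + ((r : ℕ) : ZMod (2 * m)) = (((i.cast : ℤ) + r : ℤ) : ZMod (2 * m)) := by
        push_cast
        rfl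
      rw [this, D.coe_cast hp]
    simp only [e]
    exact D.interZ _
  mu := by
    intro i u hu hu1
    have e : D.Z (((i + (m : ZMod (2 * m))).cast : ℤ)) = D.Z ((i.cast : ℤ) + m) := by
      have : i + (m : ZMod (2 * m)) = (((i.cast : ℤ) + m : ℤ) : ZMod (2 * m)) := by
        push_cast
        rfl
      rw [this, D.coe_cast hp]
    obtain ⟨v, hv, v', hv', hn⟩ := D.muP _ u hu hu1
    rw [← e] at hv hv'
    refine ⟨v, hv, v', hv', ?_⟩
    intro j x
    have e2 : D.Z (((2 * i + (m : ZMod (2 * m)) - j).cast : ℤ)) =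
        D.Z (2 * (i.cast : ℤ) + m - (j.cast : ℤ)) := by
      have : 2 * i + (m : ZMod (2 * m)) - j =
          ((2 * (i.cast : ℤ) + m - (j.cast : ℤ) : ℤ) : ZMod (2 * m)) := by
        push_cast
        rfl
      rw [this, D.coe_cast hp]
    rw [e2, ← hn]
    exact conj_mem_cj_iff
  gen := by
    have hm := D.two_lt
    rw [eq_top_iff, ← hgen]
    have key : ∀ j : ℤ, D.Z j ≤ ⨆ i : ZMod (2 * m), D.Z (i.cast : ℤ) := by
      intro j
      rw [← D.coe_cast hp j]
      exact le_iSup (fun i : ZMod (2 * m) => D.Z (i.cast : ℤ)) (j : ZMod (2 * m))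
    refine sup_le (sup_le (iSup₂_le ?_) ?_) ?_
    · intro j hj
      rw [← D.Z_nat j hj.1 hj.2]
      exact key _
    · rw [← D.Z_one, D.R₁]; exact key _
    · rw [← D.Z_nat m (by omega) le_rfl, D.R₂]; exact key _
  p := p
  prime := hprime
  isPGroup := by
    have hm := D.two_lt
    have hmap : ∀ (g : G) (K : Subgroup G), IsPGroup p K → IsPGroup p (cj g K) :=
      fun g K h => h.map _
    have key : ∀ j : ℤ, IsPGroup p (D.Z j) := by
      apply step_induction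
      · rw [D.Z_one]; exact hpg 1 le_rfl (by omega)
      · rw [D.Z_two]; exact hpg 2 (by omega) (by omega)
      · intro j
        constructor
        · intro h; rw [D.Z_add_two]; exact hmap _ _ h
        · intro h
          have := hmap D.t⁻¹ _ h
          rwa [D.Z_add_two, cj_inv_cj] at this
    intro i
    exact key _
  H_conj := by
    intro h hh i x hx
    have := conj_mem_cj (g := h) hx
    rwa [D.HZ _ _ hh] at this

end Local

end Cfsg.Agent.Closing.Apt
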