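import Cfsg.Agent.Closing.Levi
import Cfsg.Agent.TwoFusion.BenderStar
/-!
`Levi.Bender` holds.
-/

set_option autoImplicit false

universe u

namespace Cfsg.Agent.Closing.BenderOf

open Cfsg

theorem bender : Levi.Bender.{u} := by
  intro Y _ _ M hM a b ha hb hab hne g₁ g₂ h₁ h₂
  have key : ∀ g : Y, g ∉ M → ((1 : Y) : Y ⧸ M) ≠ (g : Y ⧸ M) := by
    intro g hg h
    apply hg
    have := QuotientGroup.eq.mp h
    simpa using this
  obtain ⟨h, hh1, hh2⟩ := TwoFusion.BenderStar.two_transitive_of_commute hM ha hb hab hne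
    (key g₁ h₁) (key g₂ h₂)
  refine ⟨h, (TwoFusion.StronglyEmbeddedBasic.smul_one_eq_iff h).mp hh1, ?_⟩
  have h3 : ((h * g₁ : Y) : Y ⧸ M) = (g₂ : Y ⧸ M) := hh2
  exact QuotientGroup.eq.mp h3.symm

end Cfsg.Agent.Closing.BenderOf
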