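import Cfsg.Agent.Closing.Levi
/-!
# The closing theorem of rank two

`Ctl D i`: the control hypotheses at the root group `Z i`.  `rootSys`: `Local m G`, both Levi complements honest,
`Ctl` at `Z 1` and at `Z m` give the root group system of `G`.
-/

set_option autoImplicit false

universe u

namespace Cfsg.Agent.Closing.Close

open Cfsg Cfsg.Agent.Closing.Apt Cfsg.Agent.Closing.Levi

/-- control at the root group `Z i`: a subgroup `H₁` of the torus acting trivially on `Z i` such that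
`C_G(H₁) ∩ C_G(x) ≤ N_G(Z i)` for the involutions `x` of `Z i` and `C_G(H₁) ∩ N_G(Z i) ≤ (Z i) H`. -/
structure Ctl {G : Type u} [Group G] {m : ℕ} (D : Local m G) (i : ℤ) (H₁ : Subgroup G) : Prop where
  le : H₁ ≤ D.H
  cent : ∀ h ∈ H₁, ∀ x ∈ D.Z i, h * x * h⁻¹ = x
  two : IsPGroup 2 (D.Z i)
  rank : ∃ a ∈ D.Z i, ∃ b ∈ D.Z i, orderOf a = 2 ∧ orderOf b = 2 ∧ Commute a b ∧ a ≠ b
  cen : ∀ x ∈ D.Z i, orderOf x = 2 → ∀ y ∈ D.Z i, Commute x y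
  ctl : ∀ x ∈ D.Z i, orderOf x = 2 → ∀ y : G, (∀ h ∈ H₁, h * y = y * h) → Commute x y →
      cj y (D.Z i) = D.Z i
  nrm : ∀ y : G, (∀ h ∈ H₁, h * y = y * h) → cj y (D.Z i) = D.Z i →
      ∃ x ∈ D.Z i, ∃ h ∈ D.H, y = x * h
  fpf : ∀ x ∈ D.Z i, (∀ h ∈ D.H, (∀ k ∈ H₁, k * h = h * k) → h * x * h⁻¹ = x) → x = 1

theorem per {G : Type u} [Group G] [Finite G] {m : ℕ} (hB : Bender.{u}) (D : Local m G)
    (hodd : Odd (Nat.card D.H)) (o1 : cj D.n₁ (D.X 1) ≠ D.X 1) (o2 : cj D.n₂ (D.X m) ≠ D.X m)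
    {H₁ H₂ : Subgroup G} (c1 : Ctl D 1 H₁) (c2 : Ctl D m H₂) : D.Per := by
  have hopp := opp_all D o1 o2
  apply per_of_levi
  · obtain ⟨a, ha, b, hb, ho, ho', hab, hne⟩ := c1.rank
    exact levi_Z D hopp hB 1 H₁ c1.le c1.cent hodd c1.two ha hb ho ho' hab hne c1.cen c1.ctl c1.nrm c1.fpf
  · obtain ⟨a, ha, b, hb, ho, ho', hab, hne⟩ := c2.rank
    exact levi_Z D hopp hB m H₂ c2.le c2.cent hodd c2.two ha hb ho ho' hab hne c2.cen c2.ctl c2.nrm c2.fpf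

/-- **the closing theorem of rank two** -/
noncomputable def rootSys {G : Type u} [Group G] [Finite G] {m : ℕ} (hB : Bender.{u}) (D : Local m G)
    (hodd : Odd (Nat.card D.H)) (o1 : cj D.n₁ (D.X 1) ≠ D.X 1) (o2 : cj D.n₂ (D.X m) ≠ D.X m)
    {H₁ H₂ : Subgroup G} (c1 : Ctl D 1 H₁) (c2 : Ctl D m H₂) (h2 : ∀ j, 1 ≤ j → j ≤ m → IsPGroup 2 (D.X j))
    (hgen : ((⨆ j ∈ Set.Icc 1 m, D.X j) ⊔ cj D.n₁ (D.X 1)) ⊔ cj D.n₂ (D.X m) = ⊤) :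
    SplitTwo.RootSys m G :=
  D.rootSys (per hB D hodd o1 o2 c1 c2) 2 Nat.prime_two h2 hgen

end Cfsg.Agent.Closing.Close
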