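import Mathlib

/-!
Counting lemma for closing arguments: a transitive group `B` on `Φ`, `|Φ| > 1`, in which many
involutions of a point stabiliser fix no other point. Then there are `β ≠ α` and an involution `c`
swapping `α` and `β` such that the coset `c D`, `D` the stabiliser of `α` and `β`, contains at least
as many involutions. The number `i` of involutions of a coset `c D` satisfies `i ≤ |D|`,
`i ^ 2 ≤ #{commuting pairs of D}` and `4 i > 3 |D|` implies that `D` is abelian.
-/

set_option autoImplicit false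

namespace Cfsg.Agent.Closing.FixCount

open MulAction

section coset

variable {B : Type*} [Group B]

/-- Elements of order at most two in one coset of `D`: at most `|D|` of them. -/
theorem ncard_le [Finite B] (D : Subgroup B) (c : B) (S : Set B)
    (hS : ∀ x ∈ S, x * x = 1 ∧ c⁻¹ * x ∈ D) : S.ncard ≤ Nat.card D := by
  rw [← Nat.card_coe_set_eq]
  refine Nat.card_le_card_of_injective (fun x : S => (⟨c⁻¹ * x.1, (hS x.1 x.2).2⟩ : D)) ?_
  intro x y h
  have h1 : c⁻¹ * x.1 = c⁻¹ * y.1 := congrArg Subtype.val h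
  exact Subtype.ext (mul_left_cancel h1)

theorem inv_mul_mem {D : Subgroup B} {c x y : B} (hx : c⁻¹ * x ∈ D) (hy : c⁻¹ * y ∈ D) :
    x⁻¹ * y ∈ D := by
  have : x⁻¹ * y = (c⁻¹ * x)⁻¹ * (c⁻¹ * y) := by group
  rw [this]
  exact D.mul_mem (D.inv_mem hx) hy

theorem inverts {x t : B} (hx : x * x = 1) (hxt : (x * t) * (x * t) = 1) : x * t = t⁻¹ * x := by
  have h1 : x⁻¹ = x := inv_eq_of_mul_eq_one_left hx
  have h2 : (x * t)⁻¹ = x * t := inv_eq_of_mul_eq_one_left hxt
  rw [mul_inv_rev, h1] at h2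
  exact h2.symm

theorem commute_of_inverts {x y t : B} (hx : x * t = t⁻¹ * x) (hy : y * t = t⁻¹ * y) :
    t * (y⁻¹ * x) = (y⁻¹ * x) * t := by
  have h1 : t * y⁻¹ = y⁻¹ * t⁻¹ := by
    have h := congrArg (fun a => y⁻¹ * a * y⁻¹) hy
    simpa [mul_assoc] using h
  rw [← mul_assoc, h1, mul_assoc, ← hx, mul_assoc]

/-- The number of elements of order at most two in a coset of `D` is at most the square root of the
number of commuting pairs of `D`. -/
theorem sq_ncard_le [Finite B] (D : Subgroup B) (c : B) (S : Set B)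
    (hS : ∀ x ∈ S, x * x = 1 ∧ c⁻¹ * x ∈ D) :
    S.ncard ^ 2 ≤ Nat.card {p : D × D // Commute p.1 p.2} := by
  classical
  have hinv : ∀ x ∈ S, x⁻¹ = x := fun x hx => inv_eq_of_mul_eq_one_left (hS x hx).1
  -- a base point for each product
  have hex : ∀ t : B, ∃ x0 : B, ∀ x ∈ S, x * t ∈ S → x0 ∈ S ∧ x0 * t ∈ S := by
    intro t
    by_cases h : ∃ x, x ∈ S ∧ x * t ∈ S
    · obtain ⟨x, h1, h2⟩ := h
      exact ⟨x, fun _ _ _ => ⟨h1, h2⟩⟩
    · exact ⟨1, fun x hx hxt => absurd ⟨x, hx, hxt⟩ h⟩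
  choose b hb using hex
  have hxt : ∀ x ∈ S, ∀ y : B, x * (x * y) = y := by
    intro x hx y
    rw [← mul_assoc, (hS x hx).1, one_mul]
  have hbt : ∀ x ∈ S, ∀ y ∈ S, b (x * y) ∈ S ∧ b (x * y) * (x * y) ∈ S := by
    intro x hx y hy
    apply hb (x * y) x hx
    rw [hxt x hx]
    exact hy
  have hD : ∀ x ∈ S, ∀ y ∈ S, x * y ∈ D := by
    intro x hx y hy
    have := inv_mul_mem (hS x hx).2 (hS y hy).2
    rwa [hinv x hx] at this
  have hD' : ∀ x ∈ S, ∀ y ∈ S, (b (x * y))⁻¹ * x ∈ D := by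
    intro x hx y hy
    exact inv_mul_mem (hS _ (hbt x hx y hy).1).2 (hS x hx).2
  have hcomm : ∀ x ∈ S, ∀ y ∈ S, x * y * ((b (x * y))⁻¹ * x) = (b (x * y))⁻¹ * x * (x * y) := by
    intro x hx y hy
    obtain ⟨h1, h2⟩ := hbt x hx y hy
    refine commute_of_inverts (inverts (hS x hx).1 ?_) (inverts (hS _ h1).1 (hS _ h2).1)
    rw [hxt x hx]
    exact (hS y hy).1
  have hcard : S.ncard ^ 2 = Nat.card (S × S) := by
    rw [Nat.card_prod, sq, Nat.card_coe_set_eq]
  rw [hcard]
  refine Nat.card_le_card_of_injective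
    (fun q : S × S => (⟨(⟨q.1.1 * q.2.1, hD _ q.1.2 _ q.2.2⟩,
      ⟨(b (q.1.1 * q.2.1))⁻¹ * q.1.1, hD' _ q.1.2 _ q.2.2⟩),
      Subtype.ext (hcomm _ q.1.2 _ q.2.2)⟩ : {p : D × D // Commute p.1 p.2})) ?_
  rintro ⟨⟨x, hx⟩, ⟨y, hy⟩⟩ ⟨⟨x', hx'⟩, ⟨y', hy'⟩⟩ h
  have h0 := congrArg Subtype.val h
  have h1 : x * y = x' * y' := congrArg Subtype.val (congrArg Prod.fst h0)
  have h2 : (b (x * y))⁻¹ * x = (b (x' * y'))⁻¹ * x' := congrArg Subtype.val (congrArg Prod.snd h0)
  rw [h1] at h2
  have h3 : x = x' := mul_left_cancel h2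
  subst h3
  have h4 : y = y' := mul_left_cancel h1
  subst h4
  rfl

/-- A subgroup containing more than half of the elements of `D`. -/
theorem le_of_two_mul_card_lt [Finite B] (D K : Subgroup B) (T : Set B) (hT : ∀ x ∈ T, x ∈ D)
    (hK : ∀ x ∈ T, x ∈ K) (h : Nat.card D < 2 * T.ncard) : D ≤ K := by
  have h1 : T.ncard ≤ Nat.card (D ⊓ K : Subgroup B) := by
    rw [← Nat.card_coe_set_eq]
    refine Nat.card_le_card_of_injective (fun x : T => (⟨x.1, hT x.1 x.2, hK x.1 x.2⟩ :
      (D ⊓ K : Subgroup B))) ?_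
    intro x y e
    have e' : x.1 = y.1 := congrArg (fun z : (D ⊓ K : Subgroup B) => (z : B)) e
    exact Subtype.ext e'
  obtain ⟨m, hm⟩ := Subgroup.card_dvd_of_le (inf_le_left : D ⊓ K ≤ D)
  have hpos : 0 < Nat.card (D ⊓ K : Subgroup B) := Nat.card_pos
  have hm1 : m = 1 := by
    rcases Nat.lt_or_ge m 2 with h2 | h2
    · interval_cases m
      · rw [mul_zero] at hm
        have : 0 < Nat.card D := Nat.card_pos
        omega
      · rfl
    · have h3 : Nat.card (D ⊓ K : Subgroup B) * 2 ≤ Nat.card D := by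
        rw [hm]; exact Nat.mul_le_mul_left _ h2
      omega
  rw [hm1, mul_one] at hm
  have h5 : D ⊓ K = D := Subgroup.eq_of_le_of_card_ge inf_le_left (le_of_eq hm)
  exact inf_eq_left.1 h5

/-- If more than three quarters of the elements of a coset of `D` have order at most two then `D`
is abelian. -/
theorem comm_of_three_quarters [Finite B] (D : Subgroup B) (c : B) (S : Set B)
    (hS : ∀ x ∈ S, x * x = 1 ∧ c⁻¹ * x ∈ D) (h : 3 * Nat.card D < 4 * S.ncard) :
    ∀ a ∈ D, ∀ b ∈ D, a * b = b * a := by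
  classical
  -- a base element of `S`
  have hne : S.Nonempty := by
    rw [Set.nonempty_iff_ne_empty]
    rintro rfl
    rw [Set.ncard_empty] at h
    omega
  obtain ⟨x0, hx0⟩ := hne
  let T : Set B := {d | d ∈ D ∧ x0 * d ∈ S}
  have hTS : T.ncard = S.ncard := by
    have : (fun d => x0 * d) '' T = S := by
      ext x
      constructor
      · rintro ⟨d, hd, rfl⟩
        exact hd.2
      · intro hx
        refine ⟨x0⁻¹ * x, ⟨inv_mul_mem (hS _ hx0).2 (hS _ hx).2, ?_⟩, ?_⟩
        · rw [mul_inv_cancel_left]; exact hx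
        · show x0 * (x0⁻¹ * x) = x
          rw [mul_inv_cancel_left]
    rw [← this]
    exact (Set.ncard_image_of_injective _ (mul_right_injective x0)).symm
  have hinv : ∀ d ∈ T, x0 * d = d⁻¹ * x0 := by
    intro d hd
    exact inverts (hS _ hx0).1 (hS _ hd.2).1
  have hTD : ∀ d ∈ T, d ∈ D := fun d hd => hd.1
  have hTfin : T.Finite := Set.toFinite T
  -- elements of T are central in D
  have key : ∀ a ∈ T, D ≤ Subgroup.centralizer {a} := by
    intro a ha
    let U : Set B := {b | b ∈ T ∧ a * b ∈ T}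
    have hU : 2 * T.ncard ≤ U.ncard + Nat.card D := by
      let V : Set B := (fun d => a⁻¹ * d) '' T
      have hV : V.ncard = T.ncard := Set.ncard_image_of_injective _ (mul_right_injective a⁻¹)
      have hVD : T ∪ V ⊆ (D : Set B) := by
        rintro x (hx | ⟨d, hd, rfl⟩)
        · exact hx.1
        · exact D.mul_mem (D.inv_mem ha.1) hd.1
      have h1 : (T ∪ V).ncard ≤ Nat.card D := by
        have := Set.ncard_le_ncard hVD (Set.toFinite _)
        rwa [← Nat.card_coe_set_eq (D : Set B)] at this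
      have h2 := Set.ncard_union_add_ncard_inter T V (Set.toFinite _) (Set.toFinite _)
      have h3 : T ∩ V ⊆ U := by
        rintro x ⟨hx, ⟨d, hd, rfl⟩⟩
        refine ⟨hx, ?_⟩
        show a * (a⁻¹ * d) ∈ T
        rw [mul_inv_cancel_left]
        exact hd
      have h4 := Set.ncard_le_ncard h3 (Set.toFinite _)
      omega
    refine le_of_two_mul_card_lt D _ U (fun x hx => hx.1.1) ?_ ?_
    · intro b hb
      have e1 := hinv a ha
      have e2 := hinv b hb.1
      have e3 := hinv (a * b) hb.2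
      rw [Subgroup.mem_centralizer_singleton_iff]
      -- x0 a b = a⁻¹ b⁻¹ x0 and = (ab)⁻¹ x0
      have e4 : x0 * (a * b) = a⁻¹ * b⁻¹ * x0 := by
        rw [← mul_assoc, e1, mul_assoc, e2, mul_assoc]
      rw [e3] at e4
      have e5 := mul_right_cancel e4
      have e6 := congrArg (fun z => z⁻¹) e5
      simpa using e6.symm
    · omega
  intro a ha b hb
  have hZ : D ≤ Subgroup.centralizer (D : Set B) := by
    refine le_of_two_mul_card_lt D _ T hTD ?_ ?_
    · intro d hd
      rw [Subgroup.mem_centralizer_iff]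
      intro e he
      have := key d hd he
      rw [Subgroup.mem_centralizer_singleton_iff] at this
      exact this
    · rw [hTS]; omega
  have := hZ ha
  rw [Subgroup.mem_centralizer_iff] at this
  exact (this b hb).symm

end coset

section action

variable {B : Type*} [Group B] {Φ : Type*} [MulAction B Φ]

/-- Elements of order at most two fixing `α` and nothing else. -/
def fixOnly (B : Type*) [Group B] {Φ : Type*} [MulAction B Φ] (α : Φ) : Set B :=
  {x | x * x = 1 ∧ x • α = α ∧ ∀ γ : Φ, x • γ = γ → γ = α}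

/-- Elements of order at most two moving `α` to `β`. -/
def swap (B : Type*) [Group B] {Φ : Type*} [MulAction B Φ] (α β : Φ) : Set B :=
  {x | x * x = 1 ∧ x • α = β}

theorem smul_of_mem_swap {α β : Φ} {x : B} (hx : x ∈ swap B α β) : x • β = α := by
  rw [← hx.2, smul_smul, hx.1, one_smul]

theorem inv_mul_mem_of_swap {α β : Φ} {x y : B} (hx : x ∈ swap B α β) (hy : y ∈ swap B α β) :
    x⁻¹ * y ∈ stabilizer B α ⊓ stabilizer B β := by
  refine ⟨?_, ?_⟩
  · show (x⁻¹ * y) • α = α
    rw [mul_smul, hy.2, inv_smul_eq_iff, hx.2]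
  · show (x⁻¹ * y) • β = β
    rw [mul_smul, smul_of_mem_swap hy, inv_smul_eq_iff, smul_of_mem_swap hx]

/-- The counting lemma. -/
theorem exists_swap [Finite B] [IsPretransitive B Φ] (α : Φ) (hne : ∃ β : Φ, β ≠ α) :
    ∃ β : Φ, β ≠ α ∧ (fixOnly B α).ncard ≤ (swap B α β).ncard := by
  classical
  haveI : Nonempty Φ := ⟨α⟩
  haveI : Finite Φ := Finite.of_surjective (fun g : B => g • α) (fun β => exists_smul_eq B α β)
  haveI := Fintype.ofFinite Φ
  haveI := Fintype.ofFinite B
  -- all involutions with exactly one fixed point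
  let X : Finset B := Finset.univ.filter fun x => x * x = 1 ∧ ∃ γ : Φ, x • γ = γ ∧
    ∀ δ : Φ, x • δ = δ → δ = γ
  let F : Φ → Finset B := fun γ => Finset.univ.filter fun x => x ∈ fixOnly B γ
  let S : Φ → Finset B := fun β => X.filter fun x => x • α = β
  have hF : ∀ γ, (F γ).card = (fixOnly B α).ncard := by
    intro γ
    obtain ⟨g, rfl⟩ := exists_smul_eq B α γ
    have h1 : (fixOnly B α).ncard = (F α).card := by
      rw [← Set.ncard_coe_finset]
      congr 1
      ext x
      simp [F]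
    rw [h1]
    symm
    refine Finset.card_bij (fun x _ => g * x * g⁻¹) ?_ ?_ ?_
    · intro x hx
      rw [Finset.mem_filter] at hx ⊢
      obtain ⟨-, h1, h2, h3⟩ := hx
      refine ⟨Finset.mem_univ _, ?_, ?_, ?_⟩
      · show g * x * g⁻¹ * (g * x * g⁻¹) = 1
        have : g * x * g⁻¹ * (g * x * g⁻¹) = g * (x * x) * g⁻¹ := by group
        rw [this, h1]; group
      · show (g * x * g⁻¹) • g • α = g • α
        rw [smul_smul, inv_mul_cancel_right, mul_smul, h2]
      · intro δ hδ
        have h4 : x • g⁻¹ • δ = g⁻¹ • δ := by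
          rw [mul_smul, mul_smul] at hδ
          exact eq_inv_smul_iff.2 hδ
        have := h3 _ h4
        rw [← this, smul_inv_smul]
    · intro x _ y _ h
      exact mul_left_cancel (mul_right_cancel h)
    · intro y hy
      rw [Finset.mem_filter] at hy
      obtain ⟨-, h1, h2, h3⟩ := hy
      refine ⟨g⁻¹ * y * g, ?_, by group⟩
      rw [Finset.mem_filter]
      refine ⟨Finset.mem_univ _, ?_, ?_, ?_⟩
      · show g⁻¹ * y * g * (g⁻¹ * y * g) = 1
        have : g⁻¹ * y * g * (g⁻¹ * y * g) = g⁻¹ * (y * y) * g := by group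
        rw [this, h1]; group
      · show (g⁻¹ * y * g) • α = α
        rw [mul_smul, mul_smul, h2, inv_smul_smul]
      · intro δ hδ
        have h4 : y • g • δ = g • δ := by
          rw [mul_smul, mul_smul] at hδ
          exact inv_smul_eq_iff.1 hδ
        have := h3 _ h4
        exact smul_left_cancel g this
  -- count `X` in two ways
  have hX1 : X.card = Fintype.card Φ * (fixOnly B α).ncard := by
    have h1 : X = Finset.univ.biUnion F := by
      ext x
      simp only [X, F, Finset.mem_filter, Finset.mem_univ, true_and, Finset.mem_biUnion]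
      constructor
      · rintro ⟨h1, γ, h2, h3⟩
        exact ⟨γ, h1, h2, h3⟩
      · rintro ⟨γ, h1, h2, h3⟩
        exact ⟨h1, γ, h2, h3⟩
    rw [h1, Finset.card_biUnion]
    · rw [Finset.sum_congr rfl (fun γ _ => hF γ), Finset.sum_const, Finset.card_univ, smul_eq_mul]
    · intro γ _ δ _ hγδ
      show Disjoint (F γ) (F δ)
      rw [Finset.disjoint_left]
      intro x hx hx'
      rw [Finset.mem_filter] at hx hx'
      exact hγδ (hx'.2.2.2 γ hx.2.2.1)
  have hX2 : X.card = ∑ β : Φ, (S β).card := by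
    rw [Finset.card_eq_sum_card_fiberwise (f := fun x : B => x • α) (t := Finset.univ)
      (fun x _ => Finset.mem_univ _)]
  have hSα : (S α).card = (fixOnly B α).ncard := by
    rw [← hF α]
    congr 1
    ext x
    simp only [S, F, X, Finset.mem_filter, Finset.mem_univ, true_and]
    constructor
    · rintro ⟨⟨h1, γ, h2, h3⟩, h4⟩
      refine ⟨h1, h4, fun δ hδ => ?_⟩
      rw [h3 δ hδ, h3 α h4]
    · rintro ⟨h1, h2, h3⟩
      exact ⟨⟨h1, α, h2, h3⟩, h2⟩
  have hsum : ∑ β ∈ Finset.univ.erase α, (S β).card =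
      ∑ _β ∈ Finset.univ.erase α, (fixOnly B α).ncard := by
    have h1 := Finset.add_sum_erase (Finset.univ : Finset Φ) (fun β => (S β).card)
      (Finset.mem_univ α)
    have h2 := Finset.add_sum_erase (Finset.univ : Finset Φ) (fun _ : Φ => (fixOnly B α).ncard)
      (Finset.mem_univ α)
    have h3 : ∑ _x : Φ, (fixOnly B α).ncard = ∑ x : Φ, (S x).card := by
      rw [← hX2, hX1, Finset.sum_const, Finset.card_univ, smul_eq_mul]
    rw [h3, ← h1, hSα] at h2
    exact (Nat.add_left_cancel h2).symm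
  obtain ⟨β₀, hβ₀⟩ := hne
  have hnonempty : (Finset.univ.erase α : Finset Φ).Nonempty :=
    ⟨β₀, Finset.mem_erase.2 ⟨hβ₀, Finset.mem_univ _⟩⟩
  obtain ⟨β, hβ, hle⟩ := Finset.exists_le_of_sum_le hnonempty (le_of_eq hsum.symm)
  refine ⟨β, (Finset.mem_erase.1 hβ).1, hle.trans ?_⟩
  rw [← Set.ncard_coe_finset]
  apply Set.ncard_le_ncard _ (Set.toFinite _)
  intro x hx
  rw [Finset.mem_coe, Finset.mem_filter, Finset.mem_filter] at hx
  exact ⟨hx.1.2.1, hx.2⟩

end action

section main

variable {G : Type*} [Group G]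

/-- The elements of `G₀ ∩ B` of order at most two fixing exactly one point of `B / (B ∩ G₀)`. -/
def only (G₀ B : Subgroup G) : Set G :=
  {x | x ∈ G₀ ∧ x ∈ B ∧ x * x = 1 ∧ ∀ g ∈ B, g⁻¹ * x * g ∈ G₀ → g ∈ G₀}

/-- The counting lemma for subgroups `G₀`, `B` with `B` not contained in `G₀`: there is `c` in `B`
outside `G₀` of order two such that, for `D = B ∩ G₀ ∩ G₀ ^ c`, the coset `c D` contains at least
as many elements of order two as there are elements of order two of `B ∩ G₀` fixing exactly one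
point of `B / (B ∩ G₀)`. -/
theorem exists_coset [Finite G] (G₀ B : Subgroup G) (hB : ¬ B ≤ G₀)
    (hpos : (only G₀ B).Nonempty) :
    ∃ (D : Subgroup G) (c : G) (S : Set G), D ≤ G₀ ∧ D ≤ B ∧ c ∈ B ∧ c ∉ G₀ ∧ c * c = 1 ∧
      (∀ x, x ∈ D ↔ x ∈ B ∧ x ∈ G₀ ∧ c⁻¹ * x * c ∈ G₀) ∧
      (∀ x ∈ S, x ∈ B ∧ x * x = 1 ∧ c⁻¹ * x ∈ D) ∧
      (only G₀ B).ncard ≤ S.ncard := by
  classical
  obtain ⟨g, hgB, hg0⟩ := Set.not_subset.1 hB
  let Φ := B ⧸ (G₀.subgroupOf B)
  let α : Φ := ((1 : B) : Φ)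
  have hmk : ∀ a b : B, ((a : Φ) = (b : Φ)) ↔ (a : G)⁻¹ * b ∈ G₀ := by
    intro a b
    rw [QuotientGroup.eq]
    exact Iff.rfl
  have hne : ∃ β : Φ, β ≠ α := by
    refine ⟨((⟨g, hgB⟩ : B) : Φ), ?_⟩
    intro h
    have := (hmk _ _).1 h.symm
    apply hg0
    simpa using this
  obtain ⟨β, hβ, hle⟩ := exists_swap (B := B) α hne
  -- the elements fixing only `α`
  have hfix : ∀ x : G, x ∈ only G₀ B ↔ ∃ hx : x ∈ B, (⟨x, hx⟩ : B) ∈ fixOnly B α := by
    intro x
    constructor
    · rintro ⟨h1, h2, h3, h4⟩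
      refine ⟨h2, Subtype.ext h3, ?_, ?_⟩
      · show (((⟨x, h2⟩ : B) * 1 : B) : Φ) = ((1 : B) : Φ)
        rw [hmk]
        simpa using G₀.inv_mem h1
      · intro γ
        induction γ using QuotientGroup.induction_on with
        | H a =>
          intro h
          have h5 : (((⟨x, h2⟩ : B) * a : B) : Φ) = (a : Φ) := h
          rw [eq_comm, hmk] at h5
          have h6 : (a : G) ∈ G₀ := by
            apply h4 a a.2
            have : (a : G)⁻¹ * x * a = (a : G)⁻¹ * ((⟨x, h2⟩ : B) * a : B) := by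
              show _ = (a : G)⁻¹ * (x * a)
              group
            rw [this]
            exact h5
          show (a : Φ) = ((1 : B) : Φ)
          rw [hmk]
          simpa using G₀.inv_mem h6
    · rintro ⟨hx, h1, h2, h3⟩
      refine ⟨?_, hx, congrArg Subtype.val h1, ?_⟩
      · have h4 : (((⟨x, hx⟩ : B) * 1 : B) : Φ) = ((1 : B) : Φ) := h2
        rw [eq_comm, hmk] at h4
        simpa using h4
      · intro a ha h
        have h5 : ((⟨a, ha⟩ : B) : Φ) = ((1 : B) : Φ) := by
          apply h3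
          show (((⟨x, hx⟩ : B) * ⟨a, ha⟩ : B) : Φ) = ((⟨a, ha⟩ : B) : Φ)
          rw [eq_comm, hmk]
          show a⁻¹ * (x * a) ∈ G₀
          rw [← mul_assoc]
          exact h
        rw [eq_comm, hmk] at h5
        simpa using h5
  have hcard : (only G₀ B).ncard = (fixOnly B α).ncard := by
    have : only G₀ B = (fun x : B => (x : G)) '' fixOnly B α := by
      ext x
      rw [hfix]
      constructor
      · rintro ⟨hx, h⟩
        exact ⟨⟨x, hx⟩, h, rfl⟩
      · rintro ⟨y, hy, rfl⟩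
        exact ⟨y.2, hy⟩
    rw [this]
    exact Set.ncard_image_of_injective _ Subtype.val_injective
  have hSpos : (swap B α β).Nonempty := by
    rw [Set.nonempty_iff_ne_empty]
    intro h
    rw [h, Set.ncard_empty, ← hcard] at hle
    have : 0 < (only G₀ B).ncard := (Set.ncard_pos (Set.toFinite _)).2 hpos
    omega
  obtain ⟨c, hc⟩ := hSpos
  have hcβ : ((c : B) : Φ) = β := by
    have : c • α = β := hc.2
    rw [← this]
    show (c : Φ) = ((c * 1 : B) : Φ)
    rw [mul_one]
  refine ⟨(stabilizer B α ⊓ stabilizer B β).map B.subtype, c, (fun x : B => (x : G)) '' swap B α β,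
    ?_, ?_, c.2, ?_, ?_, ?_, ?_, ?_⟩
  · rintro x ⟨y, ⟨hy, -⟩, rfl⟩
    have h1 : ((y * 1 : B) : Φ) = ((1 : B) : Φ) := hy
    rw [eq_comm, hmk] at h1
    simpa using h1
  · rintro x ⟨y, -, rfl⟩
    exact y.2
  · intro h
    apply hβ
    rw [← hcβ]
    show (c : Φ) = ((1 : B) : Φ)
    rw [hmk]
    simpa using G₀.inv_mem h
  · exact congrArg Subtype.val hc.1
  · intro x
    constructor
    · rintro ⟨y, ⟨hy1, hy2⟩, rfl⟩
      refine ⟨y.2, ?_, ?_⟩
      · have h1 : ((y * 1 : B) : Φ) = ((1 : B) : Φ) := hy1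
        rw [eq_comm, hmk] at h1
        simpa using h1
      · have h1 : y • β = β := hy2
        rw [← hcβ] at h1
        have h2 : ((y * c : B) : Φ) = ((c : B) : Φ) := h1
        rw [eq_comm, hmk] at h2
        show (c : G)⁻¹ * y * c ∈ G₀
        rw [mul_assoc]
        exact h2
    · rintro ⟨h1, h2, h3⟩
      refine ⟨⟨x, h1⟩, ⟨?_, ?_⟩, rfl⟩
      · show (((⟨x, h1⟩ : B) * 1 : B) : Φ) = ((1 : B) : Φ)
        rw [eq_comm, hmk]
        simpa using h2
      · show (⟨x, h1⟩ : B) • β = β
        rw [← hcβ]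
        show (((⟨x, h1⟩ : B) * c : B) : Φ) = ((c : B) : Φ)
        rw [eq_comm, hmk]
        show (c : G)⁻¹ * (x * c) ∈ G₀
        rw [← mul_assoc]
        exact h3
  · rintro x ⟨y, hy, rfl⟩
    refine ⟨y.2, congrArg Subtype.val hy.1, ?_⟩
    exact ⟨c⁻¹ * y, inv_mul_mem_of_swap hc hy, rfl⟩
  · rw [hcard, Set.ncard_image_of_injective _ Subtype.val_injective]
    exact hle

end main

end Cfsg.Agent.Closing.FixCount
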