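import Cfsg.Agent.Closing.Apt
import Cfsg.Prelude.Def_Involutions
/-!
# The closing theorem of rank two, the relation

`levi_top`: in a finite group `Y` with a TI Sylow 2-subgroup `T` of rank at least two, `N(T) = T A` with `A` of odd
order acting fixed point freely on `T`, there is only one conjugate of `T` different from `T` normalised by `A`.

`rel₁`, `rel₂`: hence in the apartment of `Local m G` the two opposites of `X 1` (of `X m`) in the tree coincide,
as soon as the centraliser of a subgroup `H₁` of `H` acting trivially on `X 1` is under control.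
-/

set_option autoImplicit false

universe u

namespace Cfsg.Agent.Closing.Levi

open Cfsg Cfsg.Agent.Closing.Apt

/-- Bender's theorem (S1220) for groups with two commuting involutions -/
def Bender : Prop := ∀ (Y : Type u) [Group Y] [Finite Y] (M : Subgroup Y), IsStronglyEmbedded M →
  ∀ a b : Y, orderOf a = 2 → orderOf b = 2 → Commute a b → a ≠ b →
    ∀ g₁ g₂ : Y, g₁ ∉ M → g₂ ∉ M → ∃ h ∈ M, g₂⁻¹ * (h * g₁) ∈ M

/-- the stabiliser of `T` under conjugation -/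
def nrm {Y : Type*} [Group Y] (T : Subgroup Y) : Subgroup Y where
  carrier := {y | cj y T = T}
  one_mem' := cj_one T
  mul_mem' := by
    intro a b ha hb
    change cj (a * b) T = T
    rw [cj_mul, show cj b T = T from hb]; exact ha
  inv_mem' := by
    intro a ha
    change cj a⁻¹ T = T
    have h : cj a⁻¹ (cj a T) = T := cj_inv_cj a T
    rwa [show cj a T = T from ha] at h

theorem mem_nrm {Y : Type*} [Group Y] {T : Subgroup Y} {y : Y} : y ∈ nrm T ↔ cj y T = T := Iff.rfl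

theorem self_nrm {Y : Type*} [Group Y] {T : Subgroup Y} {x : Y} (hx : x ∈ T) : cj x T = T := by
  ext y
  rw [mem_cj]
  constructor
  · intro h
    have : y = x * (x⁻¹ * y * x) * x⁻¹ := by group
    rw [this]; exact T.mul_mem (T.mul_mem hx h) (T.inv_mem hx)
  · intro h
    exact T.mul_mem (T.mul_mem (T.inv_mem hx) h) hx

/-- a 2-element of `T A` lies in `T` -/
theorem mem_of_two {Y : Type*} [Group Y] [Finite Y] {T A : Subgroup Y} (hT2 : IsPGroup 2 T)
    (hA : Odd (Nat.card A)) (hAT : ∀ h ∈ A, cj h T = T) {t h : Y} (ht : t ∈ T) (hh : h ∈ A)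
    {k : ℕ} (hk : (t * h) ^ (2 ^ k) = 1) : t * h ∈ T := by
  have hpow : ∀ n : ℕ, ∃ t' ∈ T, (t * h) ^ n = t' * h ^ n := by
    intro n
    induction n with
    | zero => exact ⟨1, T.one_mem, by simp⟩
    | succ n ih =>
      obtain ⟨t', ht', e⟩ := ih
      have h1 : h ^ n * t * (h ^ n)⁻¹ ∈ T := by
        have := conj_mem_cj (g := h ^ n) ht
        rwa [hAT _ (A.pow_mem hh n)] at this
      refine ⟨t' * (h ^ n * t * (h ^ n)⁻¹), T.mul_mem ht' h1, ?_⟩
      rw [pow_succ, e, pow_succ]; group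
  obtain ⟨t', ht', e⟩ := hpow (2 ^ k)
  rw [hk] at e
  have hmem : h ^ (2 ^ k) ∈ T := by
    have : h ^ (2 ^ k) = t'⁻¹ := by
      rw [eq_inv_iff_mul_eq_one]
      have e1 : t' * h ^ (2 ^ k) = 1 := e.symm
      have := mul_eq_one_iff_eq_inv.1 e1
      rw [this]; group
    rw [this]; exact T.inv_mem ht'
  -- `h` has odd order
  have ho : Odd (orderOf h) := by
    have h1 : orderOf h ∣ Nat.card A := Subgroup.orderOf_dvd_natCard A hh
    exact Odd.of_dvd_nat hA h1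
  obtain ⟨j, hj⟩ := hT2 ⟨h ^ (2 ^ k), hmem⟩
  have hj' : (h ^ (2 ^ k)) ^ (2 ^ j) = 1 := by
    have := congrArg Subtype.val hj
    simpa using this
  rw [← pow_mul, ← pow_add] at hj'
  have hd : orderOf h ∣ 2 ^ (k + j) := orderOf_dvd_of_pow_eq_one hj'
  have hc : Nat.Coprime (orderOf h) (2 ^ (k + j)) := by
    apply Nat.Coprime.pow_right
    exact (Nat.coprime_two_right).2 ho
  have h1 : orderOf h = 1 := Nat.Coprime.eq_one_of_dvd hc hd
  rw [orderOf_eq_one_iff] at h1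
  rw [h1, mul_one]; exact ht

/-- **two opposites of a TI Sylow 2-subgroup coincide** -/
theorem levi_top (hB : Bender.{u}) {Y : Type u} [Group Y] [Finite Y] (T P₁ P₂ A : Subgroup Y)
    (hT2 : IsPGroup 2 T) {a b : Y} (haT : a ∈ T) (ha : orderOf a = 2) (hb : orderOf b = 2)
    (hab : Commute a b) (hne : a ≠ b)
    (hcen : ∀ x ∈ T, orderOf x = 2 → ∀ y ∈ T, Commute x y)
    (hctl : ∀ x ∈ T, orderOf x = 2 → ∀ y, Commute x y → cj y T = T)
    (hA : Odd (Nat.card A)) (hAT : ∀ h ∈ A, cj h T = T) (hA1 : ∀ h ∈ A, cj h P₁ = P₁)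
    (hA2 : ∀ h ∈ A, cj h P₂ = P₂)
    (hnc : ∀ y, cj y T = T → ∃ x ∈ T, ∃ h ∈ A, y = x * h)
    (hfp : ∀ x ∈ T, (∀ h ∈ A, h * x * h⁻¹ = x) → x = 1)
    (g₁ g₂ : Y) (h1 : P₁ = cj g₁ T) (h2 : P₂ = cj g₂ T) (hne1 : P₁ ≠ T) (hne2 : P₂ ≠ T)
    (hN : ∀ x ∈ T, cj x P₁ = P₁ → x = 1) : P₁ = P₂ := by
  have hg1 : g₁ ∉ nrm T := fun h => hne1 (h1.trans h)
  have hg2 : g₂ ∉ nrm T := fun h => hne2 (h2.trans h)
  have hM : IsStronglyEmbedded (nrm T) := by
    refine ⟨fun h => hg1 (h ▸ Subgroup.mem_top _), ?_, ?_⟩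
    · have haM : a ∈ nrm T := self_nrm haT
      have h1 : orderOf a ∣ Nat.card (nrm T) := Subgroup.orderOf_dvd_natCard _ haM
      rw [ha] at h1
      exact even_iff_two_dvd.2 h1
    · intro g hg
      by_contra hodd
      rw [Nat.not_odd_iff_even, even_iff_two_dvd] at hodd
      obtain ⟨x, hx⟩ := exists_prime_orderOf_dvd_card' 2 hodd
      obtain ⟨x, hxm⟩ := x
      have hxo : orderOf x = 2 := by
        rwa [Subgroup.orderOf_mk] at hx
      obtain ⟨hx1, hx2⟩ := Subgroup.mem_inf.1 hxm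
      have key : ∀ y : Y, orderOf y = 2 → y ∈ nrm T → y ∈ T := by
        intro y hy hyM
        obtain ⟨t, ht, h, hh, e⟩ := hnc y hyM
        rw [e]
        refine mem_of_two hT2 hA hAT ht hh (k := 1) ?_
        rw [← e, pow_one, ← hy]; exact pow_orderOf_eq_one y
      have hxT : x ∈ T := key x hxo hx1
      have hx2' : g⁻¹ * x * g ∈ nrm T := by
        have : x ∈ cj g (nrm T) := hx2
        exact mem_cj.1 this
      have hxo' : orderOf (g⁻¹ * x * g) = 2 := by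
        have e : g⁻¹ * x * g = MulAut.conj g⁻¹ x := by simp
        rw [e]
        rw [← hxo]
        exact orderOf_injective (MulAut.conj g⁻¹).toMonoidHom (MulAut.conj g⁻¹).injective x
      have hxT' : g⁻¹ * x * g ∈ T := key _ hxo' hx2'
      apply hg
      change cj g T = T
      have hle : cj g T ≤ T := by
        intro y hy
        rw [mem_cj] at hy
        have hc : Commute (g⁻¹ * x * g) (g⁻¹ * y * g) := hcen _ hxT' hxo' _ hy
        have hc' : Commute x y := by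
          have h1 : g⁻¹ * x * g * (g⁻¹ * y * g) = g⁻¹ * y * g * (g⁻¹ * x * g) := hc
          have h2 : x * y = g * (g⁻¹ * x * g * (g⁻¹ * y * g)) * g⁻¹ := by group
          have h3 : y * x = g * (g⁻¹ * y * g * (g⁻¹ * x * g)) * g⁻¹ := by group
          change x * y = y * x
          rw [h2, h3, h1]
        have hyM := hctl x hxT hxo y hc'
        obtain ⟨t, ht, h, hh, e⟩ := hnc y hyM
        obtain ⟨k, hk⟩ := hT2 ⟨_, hy⟩
        have hk' : (g⁻¹ * y * g) ^ (2 ^ k) = 1 := by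
          have := congrArg Subtype.val hk
          simpa using this
        have hk2 : y ^ (2 ^ k) = 1 := by
          have e1 : (g⁻¹ * y * g) ^ (2 ^ k) = g⁻¹ * y ^ (2 ^ k) * g := by
            have e2 : g⁻¹ * y * g = MulAut.conj g⁻¹ y := by simp
            rw [e2, ← map_pow]; simp
          rw [e1] at hk'
          have e3 : y ^ (2 ^ k) = g * (g⁻¹ * y ^ (2 ^ k) * g) * g⁻¹ := by group
          rw [e3, hk']; group
        rw [e] at hk2 ⊢
        exact mem_of_two hT2 hA hAT ht hh hk2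
      apply Subgroup.eq_of_le_of_card_ge hle
      rw [cj, Subgroup.card_map_of_injective (MulAut.conj g).injective]
  obtain ⟨h, hh, hh2⟩ := hB Y (nrm T) hM a b ha hb hab hne g₁ g₂ hg1 hg2
  obtain ⟨x, hx, c, hc, e⟩ := hnc h hh
  have e1 : cj h P₁ = P₂ := by
    have : cj (g₂⁻¹ * (h * g₁)) T = T := hh2
    rw [cj_mul, cj_mul] at this
    apply cj_injective g₂⁻¹
    rw [h1, this, h2, cj_inv_cj]
  have e2 : cj x P₁ = P₂ := by
    rw [e, cj_mul, hA1 c hc] at e1; exact e1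
  have hx1 : x = 1 := by
    apply hfp x hx
    intro d hd
    have hdx : d * x * d⁻¹ ∈ T := by
      have := conj_mem_cj (g := d) hx
      rwa [hAT d hd] at this
    have e3 : cj (d * x * d⁻¹) P₁ = P₂ := by
      rw [cj_mul, cj_mul, hA1 _ (A.inv_mem hd), e2, hA2 d hd]
    have e4 : cj (x⁻¹ * (d * x * d⁻¹)) P₁ = P₁ := by
      rw [cj_mul, e3, ← e2, cj_inv_cj]
    have e5 := hN _ (T.mul_mem (T.inv_mem hx) hdx) e4
    rw [inv_mul_eq_one] at e5
    exact e5.symm
  rw [← e2, hx1, cj_one]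

theorem cj_subgroupOf {G : Type*} [Group G] {Y : Subgroup G} (y : Y) (K : Subgroup G) :
    cj y (K.subgroupOf Y) = (cj (y : G) K).subgroupOf Y := by
  ext x
  simp only [mem_cj, Subgroup.mem_subgroupOf, Subgroup.coe_mul, Subgroup.coe_inv]

theorem subgroupOf_eq {G : Type*} [Group G] {Y K L : Subgroup G} (hK : K ≤ Y) (hL : L ≤ Y)
    (h : K.subgroupOf Y = L.subgroupOf Y) : K = L := by
  rw [Subgroup.subgroupOf_inj, inf_eq_left.2 hK, inf_eq_left.2 hL] at h
  exact h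

section loc

variable {G : Type u} [Group G] {m : ℕ} (D : Local m G)

include D in
theorem opp_all (h1 : cj D.n₁ (D.X 1) ≠ D.X 1) (h2 : cj D.n₂ (D.X m) ≠ D.X m) :
    ∀ j : ℤ, D.Z (j + m) ≠ D.Z j := by
  have hm := D.two_lt
  have st : ∀ j : ℤ, D.Z (j + m) ≠ D.Z j ↔ D.Z (j + 2 + m) ≠ D.Z (j + 2) := by
    intro j
    have e : j + 2 + (m : ℤ) = j + m + 2 := by ring
    rw [e, D.Z_add_two, D.Z_add_two, not_iff_not]
    exact ⟨fun h => by rw [h], fun h => cj_injective _ h⟩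
  have e1 : D.Z (1 + m) = cj D.n₁ (D.X 1) := by
    rw [← D.Z_one, D.R₁]; congr 1; ring
  have e0 : D.Z 0 = cj D.n₂ (D.X m) := by
    rw [← D.Z_nat m (by omega) le_rfl, D.R₂]; congr 1; ring
  apply Local.step_induction
  · rw [e1, D.Z_one]; exact h1
  · have h0 : D.Z (0 + m) ≠ D.Z 0 := by
      rw [zero_add, e0, D.Z_nat m (by omega) le_rfl]; exact h2.symm
    have := (st 0).1 h0
    rwa [zero_add] at this
  · exact st

variable (hopp : ∀ j : ℤ, D.Z (j + m) ≠ D.Z j)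

include hopp

theorem no_norm_right (j : ℤ) {x : G} (hx : x ∈ D.Z j) (h : cj x (D.Z (j + m)) = D.Z (j + m)) :
    x = 1 := by
  by_contra hx1
  obtain ⟨v, hv, v', hv', hk⟩ := D.muP j x hx hx1
  have h1 := hk (j + m)
  rw [cj_mul, cj_mul, self_nrm hv', h, self_nrm hv] at h1
  apply hopp j
  rw [h1]; congr 1; ring

theorem no_norm_left (j : ℤ) {x : G} (hx : x ∈ D.Z j) (h : cj x (D.Z (j - m)) = D.Z (j - m)) :
    x = 1 := by
  by_contra hx1
  obtain ⟨v, hv, v', hv', hk⟩ := D.muM j x hx hx1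
  have h1 := hk (j - m)
  rw [cj_mul, cj_mul, self_nrm hv', h, self_nrm hv] at h1
  apply hopp (j - m)
  rw [h1]
  congr 1; ring

/-- an element of the torus centralising a root group centralises the opposite -/
theorem cent_right (i : ℤ) {h : G} (hh : h ∈ D.H) (hc : ∀ x ∈ D.Z i, h * x * h⁻¹ = x) :
    ∀ u ∈ D.Z (i + m), h * u * h⁻¹ = u := by
  intro u hu
  rcases eq_or_ne u 1 with rfl | hu1
  · simp
  obtain ⟨v, hv, v', hv', hk⟩ := D.muM (i + m) u hu hu1
  have e1 : i + (m : ℤ) - m = i := by ring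
  rw [e1] at hv hv'
  have hu' : h * u * h⁻¹ ∈ D.Z (i + m) := by
    have := conj_mem_cj (g := h) hu
    rwa [D.HZ _ _ hh] at this
  have hw : h * u * h⁻¹ * u⁻¹ ∈ D.Z (i + m) := (D.Z (i + m)).mul_mem hu' ((D.Z (i + m)).inv_mem hu)
  have key : v * (h * u * h⁻¹ * u⁻¹) * v⁻¹ = h * (v * u * v') * h⁻¹ * (v * u * v')⁻¹ := by
    have e2 : h * (v * u * v') * h⁻¹ = (h * v * h⁻¹) * (h * u * h⁻¹) * (h * v' * h⁻¹) := by group
    rw [e2, hc v hv, hc v' hv']; group
  have hn1 : cj (v * u * v')⁻¹ (D.Z i) = D.Z (i + m) := by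
    apply cj_injective (v * u * v')
    rw [cj_cj_inv, hk]; congr 1; ring
  have hn2 : cj (v * u * v') (D.Z (i + m)) = D.Z i := by
    rw [hk]; congr 1; ring
  have h3 : cj (v * (h * u * h⁻¹ * u⁻¹) * v⁻¹) (D.Z i) = D.Z i := by
    rw [key, cj_mul, hn1, cj_mul, D.HZ_inv _ hh, cj_mul, hn2, D.HZ _ _ hh]
  have h4 : cj (h * u * h⁻¹ * u⁻¹) (D.Z i) = D.Z i := by
    rw [cj_mul, cj_mul, self_nrm ((D.Z i).inv_mem hv)] at h3
    apply cj_injective v
    rw [h3, self_nrm hv]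
  have h5 := no_norm_left D hopp (i + m) hw (by rw [e1]; exact h4)
  rw [mul_inv_eq_one] at h5
  exact h5

theorem cent_left (i : ℤ) {h : G} (hh : h ∈ D.H) (hc : ∀ x ∈ D.Z i, h * x * h⁻¹ = x) :
    ∀ u ∈ D.Z (i - m), h * u * h⁻¹ = u := by
  intro u hu
  rcases eq_or_ne u 1 with rfl | hu1
  · simp
  obtain ⟨v, hv, v', hv', hk⟩ := D.muP (i - m) u hu hu1
  have e1 : i - (m : ℤ) + m = i := by ring
  rw [e1] at hv hv'
  have hu' : h * u * h⁻¹ ∈ D.Z (i - m) := by
    have := conj_mem_cj (g := h) hu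
    rwa [D.HZ _ _ hh] at this
  have hw : h * u * h⁻¹ * u⁻¹ ∈ D.Z (i - m) := (D.Z (i - m)).mul_mem hu' ((D.Z (i - m)).inv_mem hu)
  have key : v * (h * u * h⁻¹ * u⁻¹) * v⁻¹ = h * (v * u * v') * h⁻¹ * (v * u * v')⁻¹ := by
    have e2 : h * (v * u * v') * h⁻¹ = (h * v * h⁻¹) * (h * u * h⁻¹) * (h * v' * h⁻¹) := by group
    rw [e2, hc v hv, hc v' hv']; group
  have hn1 : cj (v * u * v')⁻¹ (D.Z i) = D.Z (i - m) := by
    apply cj_injective (v * u * v')
    rw [cj_cj_inv, hk]; congr 1; ring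
  have hn2 : cj (v * u * v') (D.Z (i - m)) = D.Z i := by
    rw [hk]; congr 1; ring
  have h3 : cj (v * (h * u * h⁻¹ * u⁻¹) * v⁻¹) (D.Z i) = D.Z i := by
    rw [key, cj_mul, hn1, cj_mul, D.HZ_inv _ hh, cj_mul, hn2, D.HZ _ _ hh]
  have h4 : cj (h * u * h⁻¹ * u⁻¹) (D.Z i) = D.Z i := by
    rw [cj_mul, cj_mul, self_nrm ((D.Z i).inv_mem hv)] at h3
    apply cj_injective v
    rw [h3, self_nrm hv]
  have h5 := no_norm_right D hopp (i - m) hw (by rw [e1]; exact h4)
  rw [mul_inv_eq_one] at h5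
  exact h5

/-- **the two opposites of `Z i` coincide** -/
theorem levi_Z [Finite G] (hB : Bender.{u}) (i : ℤ) (H₁ : Subgroup G) (hH₁ : H₁ ≤ D.H)
    (hc : ∀ h ∈ H₁, ∀ x ∈ D.Z i, h * x * h⁻¹ = x) (hodd : Odd (Nat.card D.H))
    (hT2 : IsPGroup 2 (D.Z i)) {a b : G} (haT : a ∈ D.Z i) (hbT : b ∈ D.Z i)
    (ha : orderOf a = 2) (hb : orderOf b = 2)
    (hab : Commute a b) (hne : a ≠ b)
    (hcen : ∀ x ∈ D.Z i, orderOf x = 2 → ∀ y ∈ D.Z i, Commute x y)
    (hctl : ∀ x ∈ D.Z i, orderOf x = 2 → ∀ y : G, (∀ h ∈ H₁, h * y = y * h) → Commute x y →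
      cj y (D.Z i) = D.Z i)
    (hnc : ∀ y : G, (∀ h ∈ H₁, h * y = y * h) → cj y (D.Z i) = D.Z i →
      ∃ x ∈ D.Z i, ∃ h ∈ D.H, y = x * h)
    (hfp : ∀ x ∈ D.Z i, (∀ h ∈ D.H, (∀ k ∈ H₁, k * h = h * k) → h * x * h⁻¹ = x) → x = 1) :
    D.Z (i + m) = D.Z (i - m) := by
  set Y : Subgroup G := Subgroup.centralizer (H₁ : Set G) with hY
  have memY : ∀ y : G, y ∈ Y ↔ ∀ h ∈ H₁, h * y = y * h := by
    intro y
    rw [hY, Subgroup.mem_centralizer_iff]; rfl
  have cY : ∀ K : Subgroup G, (∀ h ∈ H₁, ∀ x ∈ K, h * x * h⁻¹ = x) → K ≤ Y := by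
    intro K hK x hx
    rw [memY]
    intro h hh
    have := hK h hh x hx
    rw [mul_inv_eq_iff_eq_mul] at this
    exact this
  have hZi : D.Z i ≤ Y := cY _ hc
  have hZr : D.Z (i + m) ≤ Y := cY _ (fun h hh => cent_right D hopp i (hH₁ hh) (hc h hh))
  have hZl : D.Z (i - m) ≤ Y := cY _ (fun h hh => cent_left D hopp i (hH₁ hh) (hc h hh))
  have ha1 : a ≠ 1 := by
    rintro rfl; rw [orderOf_one] at ha; omega
  -- the elements moving `Z i` to its opposites
  obtain ⟨v, hv, v', hv', hk⟩ := D.muP i a haT ha1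
  obtain ⟨w, hw, w', hw', hl⟩ := D.muM i a haT ha1
  have hn1 : v * a * v' ∈ Y := Y.mul_mem (Y.mul_mem (hZr hv) (hZi haT)) (hZr hv')
  have hn2 : w * a * w' ∈ Y := Y.mul_mem (Y.mul_mem (hZl hw) (hZi haT)) (hZl hw')
  have ek : cj (v * a * v') (D.Z i) = D.Z (i + m) := by rw [hk]; congr 1; ring
  have el : cj (w * a * w') (D.Z i) = D.Z (i - m) := by rw [hl]; congr 1; ring
  have hoY : ∀ (x : Y), orderOf (x : G) = orderOf x := fun x => Subgroup.orderOf_coe x
  apply subgroupOf_eq hZr hZl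
  refine levi_top hB ((D.Z i).subgroupOf Y) ((D.Z (i + m)).subgroupOf Y)
    ((D.Z (i - m)).subgroupOf Y) (D.H.subgroupOf Y) ?_ (a := ⟨a, hZi haT⟩) (b := ⟨b, hZi hbT⟩)
    ?_ ?_ ?_ ?_ ?_ ?_ ?_ ?_ ?_ ?_ ?_ ?_ ?_ ⟨_, hn1⟩ ⟨_, hn2⟩ ?_ ?_ ?_ ?_ ?_
  · exact hT2.comap_of_injective _ Y.subtype_injective
  · exact haT
  · rw [← hoY]; exact ha
  · rw [← hoY]; exact hb
  · exact Subtype.ext hab
  · intro h; exact hne (congrArg Subtype.val h)
  · intro x hx hxo y hy
    rw [← hoY] at hxo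
    exact Subtype.ext (hcen x hx hxo y hy)
  · intro x hx hxo y hxy
    rw [← hoY] at hxo
    rw [cj_subgroupOf, hctl x hx hxo y ((memY _).1 y.2) (congrArg Subtype.val hxy)]
  · have h1 : Nat.card (D.H.subgroupOf Y) ∣ Nat.card D.H := by
      have h2 : Nat.card (D.H.subgroupOf Y) = Nat.card (D.H ⊓ Y : Subgroup G) := by
        rw [← Subgroup.inf_subgroupOf_right]
        exact Nat.card_congr (Subgroup.subgroupOfEquivOfLe inf_le_right).toEquiv
      rw [h2]
      exact Subgroup.card_dvd_of_le inf_le_left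
    exact Odd.of_dvd_nat hodd h1
  · intro h hh
    rw [cj_subgroupOf, D.HZ _ (h : G) hh]
  · intro h hh
    rw [cj_subgroupOf, D.HZ _ (h : G) hh]
  · intro h hh
    rw [cj_subgroupOf, D.HZ _ (h : G) hh]
  · intro y hy
    rw [cj_subgroupOf] at hy
    have hy' : cj (y : G) (D.Z i) = D.Z i := by
      refine subgroupOf_eq ?_ hZi hy
      intro x hx
      rw [mem_cj] at hx
      have h1 := hZi hx
      have e : x = (y : G) * ((y : G)⁻¹ * x * y) * (y : G)⁻¹ := by group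
      rw [e]
      exact Y.mul_mem (Y.mul_mem y.2 h1) (Y.inv_mem y.2)
    obtain ⟨x, hx, h, hh, e⟩ := hnc y ((memY _).1 y.2) hy'
    have hhY : h ∈ Y := by
      have : h = x⁻¹ * y := by rw [e]; group
      rw [this]; exact Y.mul_mem (Y.inv_mem (hZi hx)) y.2
    exact ⟨⟨x, hZi hx⟩, hx, ⟨h, hhY⟩, hh, Subtype.ext e⟩
  · intro x hx hx2
    apply Subtype.ext
    apply hfp x hx
    intro h hh hhY
    have hhY' : h ∈ Y := (memY h).2 hhY
    exact congrArg Subtype.val (hx2 ⟨h, hhY'⟩ hh)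
  · rw [cj_subgroupOf, ek]
  · rw [cj_subgroupOf, el]
  · intro h
    exact hopp i (subgroupOf_eq hZr hZi h)
  · intro h
    have h1 := subgroupOf_eq hZl hZi h
    apply hopp (i - m)
    rw [h1]; congr 1; ring
  · intro x hx hx2
    rw [cj_subgroupOf] at hx2
    apply Subtype.ext
    apply no_norm_right D hopp i hx
    refine subgroupOf_eq ?_ hZr hx2
    intro y hy
    rw [mem_cj] at hy
    have h1 := hZr hy
    have e : y = (x : G) * ((x : G)⁻¹ * y * x) * (x : G)⁻¹ := by group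
    rw [e]
    exact Y.mul_mem (Y.mul_mem x.2 h1) (Y.inv_mem x.2)

omit hopp in
/-- **periodicity from the two relations** -/
theorem per_of_levi (h1 : D.Z (1 + m) = D.Z (1 - m)) (h2 : D.Z (m + m) = D.Z (m - m)) : D.Per := by
  apply D.per_of_Z
  · have e1 := D.R₁ (1 - m)
    have e2 := D.R₁ (1 + m)
    have e3 : (m : ℤ) + 2 - (1 - m) = 1 + 2 * m := by ring
    have e4 : (m : ℤ) + 2 - (1 + m) = 1 := by ring
    rw [e3] at e1
    rw [e4] at e2
    rw [← e1, ← e2, h1]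
  · have e1 := D.R₂ (m - m)
    have e2 := D.R₂ (m + m)
    have e3 : (m : ℤ) - (m - m) = m := by ring
    have e4 : (m : ℤ) - (m + m) = -m := by ring
    rw [e3] at e1
    rw [e4] at e2
    have h3 : D.Z (-m + 2 * m) = D.Z (-m) := by
      rw [← e2, h2, e1]; congr 1; ring
    have h4 := (D.per_steps (-m) m).1 h3
    have e5 : -(m : ℤ) + 2 * m = m := by ring
    rw [e5] at h4
    exact h4

end loc

end Cfsg.Agent.Closing.Levi
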